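import Cfsg.Agent.H65.Ore.Prd
import Cfsg.Agent.OddOrderCharacters.GaloisTwist

/-!
# Galois conjugation of structure constants (S2464, row `F₄(3)`)

* `card_pow` : `#{(a, b) | a x a⁻¹ b y b⁻¹ = g}` does not change if `x, y, g` are replaced by `x ^ m, y ^ m, g ^ m`,
  `m` coprime to the group order;
* `prd_pow_iff` : the same for `Prd`;
* `prd_pow_iff_of_coprime` : `Prd x y g ↔ Prd (x ^ i) (y ^ j) g` if the orders of `x`, `y`, `g` are pairwise coprime;
* `prd_of_order` : if `p ∥ |G|`, `q ∥ |G|`, `p ≠ q` and the order of `g` is prime to `p q`, then `Prd x y g` does not depend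
  on the elements `x`, `y` of order `p`, `q`.
-/

set_option autoImplicit false

open Cfsg Subgroup
open scoped ComplexConjugate

namespace Cfsg.Agent.H180.F43

open Cfsg.Agent.Characters Cfsg.Agent.Characters.Core Cfsg.Agent.OddOrderCharacters
open Cfsg.Agent.H65.Ore

universe u

variable {G : Type u} [Group G] [Finite G]

/-- Structure constants are invariant under Galois conjugation. -/
theorem card_pow {m : ℕ} (hm : m.Coprime (Nat.card G)) (x y g : G) :
    Nat.card {p : G × G // p.1 * x ^ m * p.1⁻¹ * (p.2 * y ^ m * p.2⁻¹) = g ^ m} =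
      Nat.card {p : G × G // p.1 * x * p.1⁻¹ * (p.2 * y * p.2⁻¹) = g} := by
  have hfin : Finite (IrrCharacter G) := finite_irr
  have := Fintype.ofFinite (IrrCharacter G)
  obtain ⟨σ, hσ⟩ := Galois.exists_ringEquiv_complex (n := Nat.card G) Nat.card_pos.ne' hm
  have h1 := ClassMul.card_conj_mul_conj x y g
  have h2 := ClassMul.card_conj_mul_conj (x ^ m) (y ^ m) (g ^ m)
  have hv : ∀ (χ : IrrCharacter G) (a : G), σ ((χ : G → ℂ) a) = (χ : G → ℂ) (a ^ m) := fun χ a =>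
    GaloisTwist.map_apply σ Nat.card_pos.ne' hσ (isIrr_isCharacter χ.2) a pow_card_eq_one'
  have hc : ∀ (χ : IrrCharacter G) (a : G), conj ((χ : G → ℂ) a) = (χ : G → ℂ) a⁻¹ := fun χ a =>
    (isCharacter_apply_inv (isIrr_isCharacter χ.2) a).symm
  have h3 : σ ((Nat.card {p : G × G // p.1 * x * p.1⁻¹ * (p.2 * y * p.2⁻¹) = g} : ℕ) : ℂ) =
      ((Nat.card {p : G × G // p.1 * x ^ m * p.1⁻¹ * (p.2 * y ^ m * p.2⁻¹) = g ^ m} : ℕ) : ℂ) := by
    rw [h1, h2, map_mul, map_natCast, map_sum]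
    congr 1
    refine Finset.sum_congr rfl fun χ _ => ?_
    rw [map_div₀, map_mul, map_mul, hc, hv, hv, hv, hv, one_pow, inv_pow, hc]
  rw [map_natCast] at h3
  exact_mod_cast h3.symm

omit [Finite G] in
theorem prd_iff_nonempty (x y g : G) :
    Prd x y g ↔ Nonempty {p : G × G // p.1 * x * p.1⁻¹ * (p.2 * y * p.2⁻¹) = g} :=
  ⟨fun ⟨a, b, h⟩ => ⟨⟨(a, b), h.symm⟩⟩, fun ⟨⟨(a, b), h⟩⟩ => ⟨a, b, h.symm⟩⟩

theorem prd_iff_card (x y g : G) :
    Prd x y g ↔ Nat.card {p : G × G // p.1 * x * p.1⁻¹ * (p.2 * y * p.2⁻¹) = g} ≠ 0 := by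
  rw [prd_iff_nonempty, Nat.card_ne_zero]
  exact ⟨fun h => ⟨h, inferInstance⟩, fun h => h.1⟩

theorem prd_pow_iff {m : ℕ} (hm : m.Coprime (Nat.card G)) (x y g : G) :
    Prd (x ^ m) (y ^ m) (g ^ m) ↔ Prd x y g := by
  rw [prd_iff_card, prd_iff_card, card_pow hm]

/-- an exponent prime to `N` with a prescribed residue -/
theorem exists_coprime_lift {k N a : ℕ} (hN : N ≠ 0) (hk : k ∣ N) (ha : a.Coprime k) :
    ∃ m : ℕ, m.Coprime N ∧ m ≡ a [MOD k] := by
  have : NeZero N := ⟨hN⟩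
  obtain ⟨u, hu⟩ := ZMod.unitsMap_surjective hk (ZMod.unitOfCoprime a ha)
  refine ⟨(u : ZMod N).val, ZMod.val_coe_unit_coprime u, ?_⟩
  rw [← ZMod.natCast_eq_natCast_iff]
  have h1 := congrArg (fun v : (ZMod k)ˣ => (v : ZMod k)) hu
  simp only [ZMod.unitsMap_def, Units.coe_map, MonoidHom.coe_coe, ZMod.coe_unitOfCoprime] at h1
  rw [← h1, ZMod.castHom_apply, ← ZMod.natCast_val]

/-- The pair `(x, y)` may be replaced by `(x ^ i, y ^ j)` if the three orders are pairwise coprime. -/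
theorem prd_pow_iff_of_coprime {x y g : G} {i j : ℕ} (hxy : (orderOf x).Coprime (orderOf y))
    (hxg : (orderOf x).Coprime (orderOf g)) (hyg : (orderOf y).Coprime (orderOf g))
    (hi : i.Coprime (orderOf x)) (hj : j.Coprime (orderOf y)) :
    Prd (x ^ i) (y ^ j) g ↔ Prd x y g := by
  obtain ⟨a, ha1, ha2⟩ := Nat.chineseRemainder hxy i j
  have hag : (orderOf x * orderOf y).Coprime (orderOf g) := Nat.Coprime.mul_left hxg hyg
  obtain ⟨b, hb1, hb2⟩ := Nat.chineseRemainder hag a 1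
  have hbx : b ≡ i [MOD orderOf x] := (hb1.of_mul_right _).trans ha1
  have hby : b ≡ j [MOD orderOf y] := (hb1.of_mul_left _).trans ha2
  have hcop : b.Coprime (orderOf x * orderOf y * orderOf g) := by
    refine Nat.Coprime.mul_right (Nat.Coprime.mul_right ?_ ?_) ?_
    · rw [Nat.coprime_iff_gcd_eq_one, hbx.gcd_eq, hi]
    · rw [Nat.coprime_iff_gcd_eq_one, hby.gcd_eq, hj]
    · rw [Nat.coprime_iff_gcd_eq_one, hb2.gcd_eq, Nat.gcd_one_left]
  have hdvd : orderOf x * orderOf y * orderOf g ∣ Nat.card G :=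
    hag.mul_dvd_of_dvd_of_dvd (hxy.mul_dvd_of_dvd_of_dvd (orderOf_dvd_natCard _) (orderOf_dvd_natCard _))
      (orderOf_dvd_natCard _)
  obtain ⟨m, hm1, hm2⟩ := exists_coprime_lift Nat.card_pos.ne' hdvd hcop
  have hmx : m ≡ i [MOD orderOf x] := ((hm2.of_mul_right _).of_mul_right _).trans hbx
  have hmy : m ≡ j [MOD orderOf y] := ((hm2.of_mul_right _).of_mul_left _).trans hby
  have hmg : m ≡ 1 [MOD orderOf g] := (hm2.of_mul_left _).trans hb2
  have h1 := prd_pow_iff hm1 x y g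
  rwa [pow_eq_pow_iff_modEq.2 hmx, pow_eq_pow_iff_modEq.2 hmy, pow_eq_pow_iff_modEq.2 hmg, pow_one] at h1

/-- Elements of order `p` with `p ∥ |G|` are conjugate to powers of each other. -/
theorem exists_isConj_pow {p : ℕ} (hp : p.Prime) (hpG : ¬ p ^ 2 ∣ Nat.card G) {x x' : G} (hx : orderOf x = p)
    (hx' : orderOf x' = p) : ∃ i : ℕ, i.Coprime p ∧ IsConj (x ^ i) x' := by
  have := Fact.mk hp
  have h1 : ∀ {z : G}, orderOf z = p → ∃ P : Sylow p G, (P : Subgroup G) = zpowers z := by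
    intro z hz
    have hc : Nat.card (zpowers z) = p := by rw [Nat.card_zpowers, hz]
    have hf : (Nat.card G).factorization p = 1 := by
      apply le_antisymm
      · by_contra h
        push Not at h
        exact hpG ((hp.pow_dvd_iff_le_factorization Nat.card_pos.ne').2 h)
      · exact (hp.dvd_iff_one_le_factorization Nat.card_pos.ne').1 (hz ▸ orderOf_dvd_natCard z)
    exact ⟨Sylow.ofCard (zpowers z) (by rw [hc, hf, pow_one]), rfl⟩
  obtain ⟨P, hP⟩ := h1 hx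
  obtain ⟨P', hP'⟩ := h1 hx'
  obtain ⟨g, hg⟩ := MulAction.exists_smul_eq G P P'
  have h2 : x' ∈ ((P' : Sylow p G) : Subgroup G) := by rw [hP']; exact mem_zpowers x'
  rw [← hg, Sylow.coe_subgroup_smul, Subgroup.mem_pointwise_smul_iff_inv_smul_mem, hP] at h2
  have h3 : g⁻¹ * x' * g ∈ zpowers x := by
    have h4 : (MulAut.conj g)⁻¹ • x' = g⁻¹ * x' * g := by
      rw [← map_inv, MulAut.smul_def, MulAut.conj_apply, inv_inv]
    rwa [h4] at h2
  obtain ⟨i, hi⟩ := (mem_powers_iff_mem_zpowers.2 h3 : g⁻¹ * x' * g ∈ Submonoid.powers x)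
  have hi : x ^ i = g⁻¹ * x' * g := hi
  have hco : IsConj (x ^ i) x' := isConj_iff.2 ⟨g, by rw [hi]; group⟩
  refine ⟨i, ?_, hco⟩
  rw [Nat.coprime_comm, hp.coprime_iff_not_dvd]
  intro h
  have h5 : x ^ i = 1 := by
    rw [← orderOf_dvd_iff_pow_eq_one, hx]
    exact h
  rw [h5, isConj_one_right] at hco
  rw [hco, orderOf_one] at hx'
  exact hp.one_lt.ne hx'

/-- **The pair may be chosen.** -/
theorem prd_of_order {p q : ℕ} (hp : p.Prime) (hq : q.Prime) (hpq : p ≠ q) (hpG : ¬ p ^ 2 ∣ Nat.card G)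
    (hqG : ¬ q ^ 2 ∣ Nat.card G) {g x y x' y' : G} (hg : (orderOf g).Coprime (p * q)) (hx : orderOf x = p)
    (hy : orderOf y = q) (hx' : orderOf x' = p) (hy' : orderOf y' = q) (h : Prd x y g) : Prd x' y' g := by
  obtain ⟨i, hi, hi'⟩ := exists_isConj_pow hp hpG hx hx'
  obtain ⟨j, hj, hj'⟩ := exists_isConj_pow hq hqG hy hy'
  have h1 := (prd_pow_iff_of_coprime (x := x) (y := y) (g := g) (i := i) (j := j)
    (by rw [hx, hy]; exact (Nat.coprime_primes hp hq).2 hpq) (by rw [hx]; exact (Nat.Coprime.coprime_mul_right_right hg).symm)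
    (by rw [hy]; exact (Nat.Coprime.coprime_mul_left_right hg).symm) (by rw [hx]; exact hi) (by rw [hy]; exact hj)).2 h
  exact (h1.congr_left hi').congr_right hj'

/-- From `g = x * y` with elements of order `p`, `q` to every such pair. -/
theorem prd_of_mul {p q : ℕ} (hp : p.Prime) (hq : q.Prime) (hpq : p ≠ q) (hpG : ¬ p ^ 2 ∣ Nat.card G)
    (hqG : ¬ q ^ 2 ∣ Nat.card G) {g x' y' : G} (hg : (orderOf g).Coprime (p * q)) (hx' : orderOf x' = p)
    (hy' : orderOf y' = q) (h : ∃ x y : G, orderOf x = p ∧ orderOf y = q ∧ g = x * y) : Prd x' y' g := by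
  obtain ⟨x, y, hx, hy, rfl⟩ := h
  exact prd_of_order hp hq hpq hpG hqG hg hx hy hx' hy' ⟨1, 1, by group⟩

end Cfsg.Agent.H180.F43
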